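import Mathlib.RingTheory.Jacobson.Ring
import Mathlib.RingTheory.Spectrum.Prime.Topology
import Mathlib.RingTheory.Localization.FractionRing
import Mathlib.RingTheory.Algebraic.Integral
import Mathlib.RingTheory.Ideal.GoingUp
import Mathlib.RingTheory.Ideal.KrullsHeightTheorem
import Mathlib.RingTheory.Ideal.MinimalPrime.Noetherian
import Mathlib.RingTheory.KrullDimension.Zero
import Mathlib.RingTheory.KrullDimension.Field
import Mathlib.RingTheory.Localization.Away.Basic
import Mathlib.RingTheory.FiniteType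
import Mathlib.RingTheory.Localization.Away.AdjoinRoot

/-! Goldman domains: domains with a localization `B_f` which is a field. -/

set_option autoImplicit false

namespace Groth.Agent.Goldman

universe u v

variable {B : Type u} [CommRing B] [IsDomain B]

theorem isField_away_iff {f : B} (hf : f ≠ 0) :
    IsField (Localization.Away f) ↔ ∀ P : Ideal B, P.IsPrime → P ≠ ⊥ → f ∈ P := by
  have hle : Submonoid.powers f ≤ nonZeroDivisors B :=
    powers_le_nonZeroDivisors_of_noZeroDivisors hf
  have : IsDomain (Localization.Away f) :=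
    IsLocalization.isDomain_of_le_nonZeroDivisors (Localization.Away f) hle
  constructor
  · intro h P hP hPb
    by_contra hfP
    have hd : Disjoint (Submonoid.powers f : Set B) P := by
      rw [Set.disjoint_left]
      rintro _ ⟨n, rfl⟩ hn
      exact hfP (hP.mem_of_pow_mem n hn)
    have h1 := IsLocalization.isPrime_of_isPrime_disjoint (Submonoid.powers f)
      (Localization.Away f) P hP hd
    have h2 := IsLocalization.under_map_of_isPrime_disjoint (Submonoid.powers f)
      (Localization.Away f) hP hd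
    letI := h.toField
    have h3 : P.map (algebraMap B (Localization.Away f)) = ⊥ :=
      (eq_bot_or_eq_top _).resolve_right h1.ne_top
    apply hPb
    rw [eq_bot_iff]
    intro x hx
    have : algebraMap B (Localization.Away f) x = 0 := by
      rw [← Submodule.mem_bot (R := Localization.Away f), ← h3]
      exact Ideal.mem_map_of_mem _ hx
    exact (IsLocalization.injective (Localization.Away f) hle (this.trans (map_zero _).symm))
  · intro h
    by_contra hnf
    obtain ⟨M, hM⟩ := Ideal.exists_maximal (Localization.Away f)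
    have hMb := Ring.ne_bot_of_isMaximal_of_not_isField hM hnf
    have hc : (M.comap (algebraMap B (Localization.Away f))).IsPrime := inferInstance
    have hfc : f ∈ M.comap (algebraMap B (Localization.Away f)) := by
      refine h _ hc fun hbot => hMb ?_
      rw [← IsLocalization.map_comap (Submonoid.powers f) _ M, Ideal.under, hbot, Ideal.map_bot]
    exact hM.ne_top (Ideal.eq_top_of_isUnit_mem _ hfc
      (IsLocalization.Away.algebraMap_isUnit (S := Localization.Away f) f))

theorem isOpen_bot_iff :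
    IsOpen ({⟨⊥, Ideal.isPrime_bot⟩} : Set (PrimeSpectrum B)) ↔
      ∃ f : B, f ≠ 0 ∧ ∀ P : Ideal B, P.IsPrime → P ≠ ⊥ → f ∈ P := by
  constructor
  · intro h
    obtain ⟨_, ⟨f, rfl⟩, hf, hsub⟩ :=
      PrimeSpectrum.isTopologicalBasis_basic_opens.exists_subset_of_mem_open (Set.mem_singleton _) h
    refine ⟨f, fun h0 => hf (by simp [h0]), fun P hP hPb => ?_⟩
    by_contra hfP
    exact hPb (congrArg PrimeSpectrum.asIdeal (hsub (show (⟨P, hP⟩ : PrimeSpectrum B) ∈ _ from hfP)))
  · rintro ⟨f, hf, h⟩
    convert (PrimeSpectrum.basicOpen f).isOpen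
    ext x
    simp only [Set.mem_singleton_iff, SetLike.mem_coe, PrimeSpectrum.mem_basicOpen]
    refine ⟨?_, fun hx => ?_⟩
    · rintro rfl; exact hf
    · by_contra hne
      exact hx (h x.asIdeal x.2 fun e => hne (PrimeSpectrum.ext e))

/-- A domain contained in a field which is a finitely generated algebra over it is a Goldman domain. -/
theorem exists_forall_mem_of_finiteType_field (K : Type v) [Field K] [Algebra B K]
    (hinj : Function.Injective (algebraMap B K)) (hK : Algebra.FiniteType B K) :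
    ∃ f : B, f ≠ 0 ∧ ∀ P : Ideal B, P.IsPrime → P ≠ ⊥ → f ∈ P := by
  have : Algebra.IsAlgebraic B K := by
    haveI : FaithfulSMul B K := (faithfulSMul_iff_algebraMap_injective B K).mpr hinj
    letI := FractionRing.liftAlgebra B K
    have h1 : Algebra.FiniteType (FractionRing B) K :=
      Algebra.FiniteType.of_restrictScalars_finiteType B (FractionRing B) K
    have h2 : Module.Finite (FractionRing B) K :=
      finite_of_finite_type_of_isJacobsonRing (FractionRing B) K
    exact (IsFractionRing.comap_isAlgebraic_iff (A := B) (K := FractionRing B) (C := K)).mpr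
      inferInstance
  obtain ⟨s, hs⟩ := hK.out
  obtain ⟨y, hy, hint⟩ := Algebra.IsAlgebraic.exists_integral_multiples B s
  refine ⟨y, hy, fun P hP hPb => ?_⟩
  by_contra hyP
  let C := integralClosure B K
  obtain ⟨Q, hQ, hQP⟩ := Ideal.exists_ideal_over_prime_of_isIntegral_of_isDomain (S := C) P
    (by
      have : RingHom.ker (algebraMap B C) = ⊥ :=
        (RingHom.injective_iff_ker_eq_bot _).mp fun a b h => hinj (congrArg Subtype.val h)
      rw [this]; exact bot_le)
  have hQb : Q ≠ ⊥ := by
    rintro rfl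
    apply hPb
    rw [← hQP, eq_bot_iff]
    intro x hx
    exact hinj ((congrArg Subtype.val (show algebraMap B C x = 0 from hx)).trans (map_zero _).symm)
  obtain ⟨c, hcQ, hc⟩ := Submodule.exists_mem_ne_zero_of_ne_bot hQb
  -- every element of K is integral up to a power of y
  have key : ∀ x : K, ∃ N : ℕ, IsIntegral B ((y ^ N) • x) := by
    intro x
    have hx : x ∈ Algebra.adjoin B (s : Set K) := by rw [hs]; trivial
    induction hx using Algebra.adjoin_induction with
    | mem z hz => exact ⟨1, by simpa using hint z hz⟩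
    | algebraMap r => exact ⟨0, by simpa using isIntegral_algebraMap⟩
    | add a b _ _ ha hb =>
      obtain ⟨m, ha⟩ := ha
      obtain ⟨n, hb⟩ := hb
      refine ⟨m + n, ?_⟩
      have : y ^ (m + n) • (a + b) = y ^ n • (y ^ m • a) + y ^ m • (y ^ n • b) := by
        rw [smul_add, smul_smul, smul_smul, ← pow_add, ← pow_add, add_comm n m]
      rw [this]
      exact (ha.smul _).add (hb.smul _)
    | mul a b _ _ ha hb =>
      obtain ⟨m, ha⟩ := ha
      obtain ⟨n, hb⟩ := hb
      refine ⟨m + n, ?_⟩
      rw [pow_add, ← smul_mul_smul_comm]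
      exact ha.mul hb
  obtain ⟨N, hN⟩ := key ((c : K)⁻¹)
  have hmem : algebraMap B C (y ^ N) ∈ Q := by
    have : algebraMap B C (y ^ N) = ⟨_, hN⟩ * c := by
      apply Subtype.ext
      rw [Subalgebra.coe_algebraMap]
      change algebraMap B K (y ^ N) = (y ^ N • (c : K)⁻¹) * c
      rw [Algebra.smul_def, mul_assoc, inv_mul_cancel₀ (fun h => hc (Subtype.ext h)), mul_one]
    rw [this]
    exact Q.mul_mem_left _ hcQ
  have : y ^ N ∈ P := by rw [← hQP]; exact hmem
  exact hyP (hP.mem_of_pow_mem N this)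

/-- In a Noetherian Goldman domain the nonzero primes are minimal over the element. -/
theorem mem_minimalPrimes_of_forall_mem [IsNoetherianRing B] {f : B} (hf : f ≠ 0)
    (h : ∀ P : Ideal B, P.IsPrime → P ≠ ⊥ → f ∈ P) {P : Ideal B} (hP : P.IsPrime) (hPb : P ≠ ⊥) :
    P ∈ (Ideal.span {f}).minimalPrimes := by
  set S := (Ideal.span {f}).minimalPrimes
  have hfin : S.Finite := (Ideal.span {f}).finite_minimalPrimes_of_isNoetherianRing B
  have hfP : Ideal.span {f} ≤ P := (Ideal.span_singleton_le_iff_mem P).mpr (h P hP hPb)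
  suffices (P : Set B) ⊆ ⋃ Q ∈ S, (Q : Set B) by
    obtain ⟨Q, hQ, hle⟩ := (Ideal.subset_union_prime_finite hfin ⊥ ⊥
      (fun Q hQ _ _ => hQ.1.1)).mp this
    exact le_antisymm hle (hQ.2 ⟨hP, hfP⟩ hle) ▸ hQ
  haveI := hP
  intro g hg
  by_contra hgU
  simp only [Set.mem_iUnion, SetLike.mem_coe, not_exists] at hgU
  have hgP : Ideal.span {g} ≤ P := (Ideal.span_singleton_le_iff_mem P).mpr hg
  obtain ⟨Q, hQ, hQP⟩ := Ideal.exists_minimalPrimes_le hgP
  have hgQ : g ∈ Q := hQ.1.2 (Ideal.mem_span_singleton_self g)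
  have hQb : Q ≠ ⊥ := by
    rintro rfl
    obtain ⟨Q', hQ', _⟩ := Ideal.exists_minimalPrimes_le hfP
    exact hgU Q' hQ' (by rw [show g = 0 from hgQ]; exact zero_mem _)
  haveI := hQ.1.1
  obtain ⟨Q', hQ', hle⟩ := Ideal.exists_minimalPrimes_le
    ((Ideal.span_singleton_le_iff_mem Q).mpr (h Q hQ.1.1 hQb))
  have hlt : Q' < Q := lt_of_le_of_ne hle (fun e => hgU Q' hQ' (e ▸ hgQ))
  have hfQ' : f ∈ Q' := hQ'.1.2 (Ideal.mem_span_singleton_self f)
  have hQ'b : Q' ≠ ⊥ := fun e => hf (by simpa [e] using hfQ')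
  have := hQ.1.1
  have := hQ'.1.1
  have h1 : Q.height ≤ 1 := Ideal.height_le_one_of_isPrincipal_of_mem_minimalPrimes _ Q hQ
  have h2 : Q'.height < Q.height := Ideal.height_strict_mono_of_isPrime hlt
  have h3 : Q'.height ≠ 0 := fun e => hQ'b (Ideal.height_eq_zero_iff_eq_bot.mp e)
  have h4 : Q'.height < 1 := lt_of_lt_of_le h2 h1
  exact h3 (Order.lt_one_iff.mp h4)

theorem finite_and_dimLE_one_of_forall_mem [IsNoetherianRing B] {f : B} (hf : f ≠ 0)
    (h : ∀ P : Ideal B, P.IsPrime → P ≠ ⊥ → f ∈ P) :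
    Finite (PrimeSpectrum B) ∧ Ring.KrullDimLE 1 B := by
  have key := fun (P : Ideal B) hP hPb => mem_minimalPrimes_of_forall_mem hf h (P := P) hP hPb
  refine ⟨?_, Ring.KrullDimLE.mk₁' fun P hPb hP => ?_⟩
  · have hfin : ({⊥} ∪ (Ideal.span {f}).minimalPrimes).Finite :=
      (Set.finite_singleton _).union ((Ideal.span {f}).finite_minimalPrimes_of_isNoetherianRing B)
    have := hfin.to_subtype
    refine Finite.of_injective (fun x : PrimeSpectrum B =>
      (⟨x.asIdeal, ?_⟩ : ↥({⊥} ∪ (Ideal.span {f}).minimalPrimes))) fun a b e => ?_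
    · by_cases hx : x.asIdeal = ⊥
      · exact Or.inl hx
      · exact Or.inr (key _ x.2 hx)
    · exact PrimeSpectrum.ext (congrArg Subtype.val e)
  · obtain ⟨M, hM, hPM⟩ := P.exists_le_maximal hP.ne_top
    have hMb : M ≠ ⊥ := fun e => hPb (eq_bot_iff.mpr (e ▸ hPM))
    have := (key M hM.isPrime hMb).2 ⟨hP, (key P hP hPb).1.2⟩ hPM
    rwa [le_antisymm hPM this]

theorem exists_forall_mem_of_finite (h : {P : Ideal B | P.IsPrime ∧ P ≠ ⊥}.Finite) :
    ∃ f : B, f ≠ 0 ∧ ∀ P : Ideal B, P.IsPrime → P ≠ ⊥ → f ∈ P := by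
  classical
  choose g hg hg0 using fun P : h.toFinset =>
    Submodule.exists_mem_ne_zero_of_ne_bot (h.mem_toFinset.mp P.2).2
  refine ⟨∏ P, g P, Finset.prod_ne_zero_iff.mpr fun P _ => hg0 P, fun P hP hPb => ?_⟩
  let i : h.toFinset := ⟨P, h.mem_toFinset.mpr ⟨hP, hPb⟩⟩
  rw [← Finset.mul_prod_erase Finset.univ g (Finset.mem_univ i)]
  exact P.mul_mem_right _ (hg i)

theorem exists_forall_mem_of_finite_maximal (hfin : Finite (MaximalSpectrum B))
    [Ring.KrullDimLE 1 B] :
    ∃ f : B, f ≠ 0 ∧ ∀ P : Ideal B, P.IsPrime → P ≠ ⊥ → f ∈ P := by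
  refine exists_forall_mem_of_finite ((Set.finite_range MaximalSpectrum.asIdeal).subset ?_)
  rintro P ⟨hP, hPb⟩
  exact ⟨⟨P, hP.isMaximal_of_ne_bot hPb⟩, rfl⟩

omit [IsDomain B] in
/-- Jacobson rings are detected by fields of finite type being finite. -/
theorem isJacobsonRing_of_forall_finite {A : Type u} [CommRing A]
    (h : ∀ (K : Type u) [Field K] [Algebra A K], Algebra.FiniteType A K → Module.Finite A K) :
    IsJacobsonRing A := by
  rw [isJacobsonRing_iff_prime_eq]
  intro P hP
  refine le_antisymm (fun x hx => ?_) Ideal.le_jacobson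
  by_contra hxP
  let L := Localization.Away x
  have hd : Disjoint (Submonoid.powers x : Set A) P := by
    rw [Set.disjoint_left]
    rintro _ ⟨n, rfl⟩ hn
    exact hxP (hP.mem_of_pow_mem n hn)
  obtain ⟨M, hM, hPM⟩ := (P.map (algebraMap A L)).exists_le_maximal
    (IsLocalization.isPrime_of_isPrime_disjoint (Submonoid.powers x) L P hP hd).ne_top
  letI := Ideal.Quotient.field M
  have hft : Algebra.FiniteType A (L ⧸ M) :=
    haveI : Algebra.FinitePresentation A L := IsLocalization.Away.finitePresentation x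
    Algebra.FiniteType.of_surjective (Ideal.Quotient.mkₐ A M) Ideal.Quotient.mk_surjective
  have := h (L ⧸ M) hft
  have hm : (M.under A).IsMaximal := by
    have : Algebra.IsIntegral A (L ⧸ M) := Algebra.IsIntegral.of_finite A _
    have := Ideal.isMaximal_comap_of_isIntegral_of_isMaximal (R := A) (⊥ : Ideal (L ⧸ M))
    convert this using 1
    ext a
    simp only [Ideal.mem_comap, Submodule.mem_bot, Ideal.under]
    rw [← Ideal.Quotient.mk_algebraMap, Ideal.Quotient.eq_zero_iff_mem]
  have hxm : x ∈ M.under A := by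
    have hle : P ≤ M.under A := Ideal.le_comap_of_map_le hPM
    exact Ideal.mem_sInf.mp hx ⟨hle, hm⟩
  exact hM.ne_top (Ideal.eq_top_of_isUnit_mem _ hxm
    (IsLocalization.Away.algebraMap_isUnit (S := L) x))

end Groth.Agent.Goldman
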