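import Mathlib.Topology.JacobsonSpace
import Mathlib.Topology.NoetherianSpace
import Groth.Agent.Goldman.Basic

/-! Locally closed points and Jacobson complements. -/

set_option autoImplicit false

namespace Groth.Agent.Goldman

open Topology

universe u

theorem exists_isLocallyClosed_singleton {X : Type u} [TopologicalSpace X] [T0Space X] {Z : Set X}
    (hc : IsCompact Z) (hne : Z.Nonempty) (hZ : IsLocallyClosed Z) :
    ∃ z ∈ Z, IsLocallyClosed ({z} : Set X) := by
  haveI := isCompact_iff_compactSpace.mp hc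
  haveI := hne.to_subtype
  obtain ⟨z, -, hz⟩ := isClosed_univ.exists_closed_singleton (X := Z) Set.univ_nonempty
  refine ⟨z.1, z.2, ?_⟩
  have := hz.isLocallyClosed.image (IsInducing.subtypeVal (t := Z))
    (by rwa [Subtype.range_coe_subtype, Set.ofPred_mem_eq])
  rwa [Set.image_singleton] at this

/-- The complement of a closed subset meeting all closed subsets is Jacobson, provided locally closed
points have at most one specialisation step before reaching it. -/
theorem jacobsonSpace_compl {X : Type u} [TopologicalSpace X] (Y : Set X) (hY : IsClosed Y)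
    (hex : ∀ Z : Set X, IsLocallyClosed Z → Z.Nonempty → ∃ z ∈ Z, IsLocallyClosed ({z} : Set X))
    (hgen : ∀ z : X, IsLocallyClosed ({z} : Set X) → ∀ t w : X, z ⤳ t → t ⤳ w → t = z ∨ t = w ∨ w = z)
    (hmeet : ∀ Z : Set X, IsClosed Z → Z.Nonempty → (Z ∩ Y).Nonempty) :
    JacobsonSpace ↥(Yᶜ) := by
  rw [jacobsonSpace_iff_locallyClosed]
  intro Z hne hZ
  have hY' : IsLocallyClosed (Set.range (Subtype.val : ↥(Yᶜ) → X)) := by
    rw [Subtype.range_coe_subtype]; exact hY.isOpen_compl.isLocallyClosed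
  obtain ⟨_, ⟨z, hz, rfl⟩, hlc⟩ := hex _ (hZ.image IsInducing.subtypeVal hY') (hne.image _)
  refine ⟨z, hz, ?_⟩
  rw [mem_closedPoints_iff, ← closure_subset_iff_isClosed]
  intro t ht
  have hzt : z.1 ⤳ t.1 := (specializes_iff_mem_closure.mpr ht).map continuous_subtype_val
  obtain ⟨w, hw, hwY⟩ := hmeet (closure {t.1}) isClosed_closure ⟨t.1, subset_closure rfl⟩
  rcases hgen z.1 hlc t.1 w hzt (specializes_iff_mem_closure.mpr hw) with h | h | h
  · exact Subtype.ext h
  · exact absurd (h ▸ hwY) t.2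
  · exact absurd (h ▸ hwY) z.2

theorem eq_or_eq_of_isLocallyClosed_singleton {A : Type u} [CommRing A] [IsNoetherianRing A]
    {z t w : PrimeSpectrum A} (hz : IsLocallyClosed ({z} : Set (PrimeSpectrum A)))
    (hzt : z ⤳ t) (htw : t ⤳ w) : t = z ∨ t = w := by
  rcases eq_or_ne t z with h | hne
  · exact Or.inl h
  right
  obtain ⟨V, F, hV, hF, hVF⟩ := hz
  have hzV : z ∈ V ∩ F := hVF ▸ rfl
  obtain ⟨_, ⟨f, rfl⟩, hf, hsub⟩ :=
    PrimeSpectrum.isTopologicalBasis_basic_opens.exists_subset_of_mem_open hzV.1 hV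
  let B := A ⧸ z.asIdeal
  have hfB : Ideal.Quotient.mk z.asIdeal f ≠ 0 := by
    rw [Ne, Ideal.Quotient.eq_zero_iff_mem]; exact hf
  have hall : ∀ P : Ideal B, P.IsPrime → P ≠ ⊥ → Ideal.Quotient.mk z.asIdeal f ∈ P := by
    intro P hP hPb
    by_contra hfP
    let q : PrimeSpectrum A := ⟨P.comap (Ideal.Quotient.mk z.asIdeal), inferInstance⟩
    have hzq : z ⤳ q := (PrimeSpectrum.le_iff_specializes z q).mp fun a ha => by
      show Ideal.Quotient.mk z.asIdeal a ∈ P
      rw [Ideal.Quotient.eq_zero_iff_mem.mpr ha]; exact zero_mem _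
    have : q ∈ ({z} : Set _) := hVF ▸ ⟨hsub hfP, hzq.mem_closed hF hzV.2⟩
    apply hPb
    rw [← Ideal.map_comap_of_surjective _ Ideal.Quotient.mk_surjective P,
      show P.comap (Ideal.Quotient.mk z.asIdeal) = z.asIdeal from
        congrArg PrimeSpectrum.asIdeal this, Ideal.map_quotient_self]
  obtain ⟨_, hdim⟩ := finite_and_dimLE_one_of_forall_mem hfB hall
  have hzt' : z.asIdeal ≤ t.asIdeal := (PrimeSpectrum.le_iff_specializes z t).mpr hzt
  have htw' : t.asIdeal ≤ w.asIdeal := (PrimeSpectrum.le_iff_specializes t w).mpr htw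
  have hp : (t.asIdeal.map (Ideal.Quotient.mk z.asIdeal)).IsPrime :=
    Ideal.map_isPrime_of_surjective Ideal.Quotient.mk_surjective (by rwa [Ideal.mk_ker])
  have hmax := hp.isMaximal_of_ne_bot (fun h => hne (PrimeSpectrum.ext (le_antisymm
    (by rwa [Ideal.map_eq_bot_iff_le_ker, Ideal.mk_ker] at h) hzt')))
  have : (t.asIdeal.map (Ideal.Quotient.mk z.asIdeal)).comap (Ideal.Quotient.mk z.asIdeal) =
      t.asIdeal := by
    rw [Ideal.comap_map_of_surjective _ Ideal.Quotient.mk_surjective, ← RingHom.ker_eq_comap_bot,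
      Ideal.mk_ker]
    exact sup_eq_left.mpr hzt'
  have htmax : t.asIdeal.IsMaximal := by
    rw [← this]; exact Ideal.comap_isMaximal_of_surjective _ Ideal.Quotient.mk_surjective
  exact PrimeSpectrum.ext (htmax.eq_of_le w.2.ne_top htw')

end Groth.Agent.Goldman
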